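import Groth.Agent.LMLib.Dual
import Groth.Agent.SurfNumLib.RR
import Groth.Agent.CycTopLib.Rank
import Groth.Agent.CurvLib.RRBasic
import Mathlib.LinearAlgebra.ExteriorPower.Basis

/-!
# Serre duality for vector bundles on smooth curves and surfaces
-/

set_option autoImplicit false
set_option linter.style.haveILetI false
set_option linter.unusedSectionVars false
set_option backward.isDefEq.respectTransparency false
set_option backward.isDefEq.respectTransparency.types false
set_option maxHeartbeats 800000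
universe u

open CategoryTheory CategoryTheory.Limits AlgebraicGeometry Opposite
open CohCmpLib (homMod)

noncomputable section

namespace LMLib

variable (k : Type u) [Field k] [IsAlgClosed k] {X : Scheme.{u}} [X.Over (Spec (CommRingCat.of k))]

/-- A module is its own first exterior power. -/
theorem isExtPow_one (E : X.Modules) : ExtPow.IsExtPow 1 E E := by
  refine ⟨fun U => (exteriorPower.oneEquiv Γ(X, U.1) (E.val.obj (op U.1))).symm, fun U V h e => ?_⟩
  rw [LinearEquiv.symm_symm, LinearEquiv.symm_symm, exteriorPower.oneEquiv_ιMulti, exteriorPower.oneEquiv_ιMulti]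

variable [IsProper (X ↘ Spec (CommRingCat.of k))] {r : ℕ} (ι : X ⟶ CohB1.ProjSpace r k) [IsClosedImmersion ι]
  (hι : ι ≫ CohB1.ProjSpace.toSpec r k = X ↘ Spec (CommRingCat.of k))

include hι

/-- Serre duality. -/
theorem hh_dual (n : ℕ) [ConnectedSpace X] [SmoothOfRelativeDimension n (X ↘ Spec (CommRingCat.of k))] {W : X.Modules}
    (hW : ExtPow.IsExtPow n (Omega.sheaf (X ↘ Spec (CommRingCat.of k))) W) {F : X.Modules}
    (hF : FlatMod.IsFinLocFree F) (p : ℕ) (hp : p ≤ n) :
    Module.finrank k (Coh.HH X F p) = Module.finrank k (Coh.HH X (homMod F W) (n - p)) := by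
  haveI := CurvLib.isNoetherian k (X := X)
  haveI : DCoh.HasSheafHom F := (HomCohLib.homAdj F).isLeftAdjoint
  obtain ⟨φ⟩ := Groth.Agent.S5668.result k n r X ι hι W hW F hF p hp
  rw [← Subspace.dual_finrank_eq, φ.finrank_eq]
  exact HodgeIdxLib.hh_congr (k := k) (HomCohLib.sheafHomIso F W) (n - p)

variable [IsIntegral X]

/-- `χ(F^∨) = χ(F)` on a surface with trivial canonical module. -/
theorem euler_du_surface [SmoothOfRelativeDimension 2 (X ↘ Spec (CommRingCat.of k))]
    (hX : topologicalKrullDim X = 2) (hK : Canon.IsTopDiff (X ↘ Spec (CommRingCat.of k)) 2 (Coh.structureModule X))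
    {F : X.Modules} (hF : FlatMod.IsFinLocFree F) :
    Curv2.euler k X (ChernOpLib.du F) = Curv2.euler k X F := by
  rw [SurfNumLib.euler_eq_three (k := k) hX.le, SurfNumLib.euler_eq_three (k := k) hX.le]
  simp only [HodgeIdxLib.hh]
  rw [hh_dual k ι hι 2 hK hF 0 (by omega), hh_dual k ι hι 2 hK hF 1 (by omega), hh_dual k ι hι 2 hK hF 2 le_rfl]
  ring

/-- `deg(E^∨) = -deg(E)` on a smooth curve. -/
theorem deg_du_curve [Smooth (X ↘ Spec (CommRingCat.of k))] (hX : topologicalKrullDim X = 1) {e : ℕ}
    {E : X.Modules} (hE : FlatMod.IsFinLocFreeOfRank e E) :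
    Curv2.deg k X (ChernOpLib.du E) e = -Curv2.deg k X E e := by
  haveI := CurvLib.isNoetherian k (X := X)
  haveI := SurfNumLib.smoothRel_of_dim (k := k) (X := X) (n := 1) hX
  let W := Omega.sheaf (X ↘ Spec (CommRingCat.of k))
  have hW1 : FlatMod.IsFinLocFreeOfRank 1 W := CohCmpLib.rank_omega _ 1
  have hW : ExtPow.IsExtPow 1 W W := isExtPow_one W
  have hWi : PicF.IsInvertible W := (CohCmpLib.invertible_iff_rank_one W).2 hW1
  have hWc := CurvLib.isCoh_of_isInvertible hWi
  have key : ∀ {G : X.Modules}, FlatMod.IsFinLocFree G →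
      Curv2.euler k X (homMod G W) = -Curv2.euler k X G := fun {G} hG => by
    rw [CurvLib.euler_curve hX, CurvLib.euler_curve hX, hh_dual k ι hι 1 hW hG 0 (by omega),
      hh_dual k ι hι 1 hW hG 1 le_rfl]
    ring
  have hO : FlatMod.IsFinLocFree (Coh.structureModule X) :=
    CurveVBLib.isFinLocFree_of_rank (CurvLib.locFree_of_isInvertible CurvLib.isInvertible_structureModule)
  have h0 := key hO
  rw [CurvLib.euler_congr (k := k) (FLI.homModIso (HilbPolyLib.unitLeft (Coh.structureModule X)) W ≪≫
    HilbPolyLib.unitLeft W)] at h0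
  have h1 := key (CurveVBLib.isFinLocFree_of_rank hE)
  obtain ⟨i⟩ := exists_homMod_iso_tensor (CurveVBLib.isFinLocFree_of_rank hE) W
  rw [CurvLib.euler_congr (k := k) i] at h1
  have h2 : Curv2.euler k X (CohB1.tensorMod (ChernOpLib.du E) W) = _ :=
    (CurvLib.eulerTensorFormula_of_isCoh (k := k) hX (CycTopLib.rank_du hE) W hWc).2
  rw [h1, h0, CurveVBLib.genRank_eq hW1] at h2
  simp only [Curv2.deg] at h2 ⊢
  push_cast at h2 ⊢
  linarith

end LMLib

end
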