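import Groth.Agent.PicOneLib.Numer
import Groth.Agent.IntMultLib.Main
import Groth.Agent.SurfNumLib.CastSev
import Groth.Agent.GenusZeroLib.Degrees

/-!
# Direct images of line bundles from a curve on a surface
-/

set_option autoImplicit false
set_option linter.style.haveILetI false
set_option linter.unusedSectionVars false
set_option backward.isDefEq.respectTransparency false
set_option backward.isDefEq.respectTransparency.types false
universe u

open CategoryTheory CategoryTheory.Limits AlgebraicGeometry Polynomial
open StabLib (HPoly hPoly_spec)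
open PicOneLib (c1 c2)

noncomputable section

namespace LMLib

variable (k : Type u) [Field k] {S : Scheme.{u}} [S.Over (Spec (CommRingCat.of k))] [IsIntegral S]
  [IsProper (S ↘ Spec (CommRingCat.of k))] {C : Scheme.{u}} [C.Over (Spec (CommRingCat.of k))] [IsIntegral C]
  (i : C ⟶ S) [IsClosedImmersion i] (hi : i ≫ (S ↘ Spec (CommRingCat.of k)) = C ↘ Spec (CommRingCat.of k))
  (hC : topologicalKrullDim C = 1)

include hi in
theorem isProper_curve : IsProper (C ↘ Spec (CommRingCat.of k)) := by
  rw [← hi]
  infer_instance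

theorem isCoh_push [IsLocallyNoetherian S] {B : C.Modules} (hB : PicF.IsInvertible B) :
    Coh.IsCoh ((Coh.push i).obj B) := by
  haveI : IsLocallyNoetherian C := LocallyOfFiniteType.isLocallyNoetherian i
  exact VBResLib.isCoh_push_of_isClosedImmersion i (CurvLib.isCoh_of_isInvertible hB)

include hi hC

/-- `χ(i_* B ⊗ M) = χ(B) + deg(M|_C)`. -/
theorem euler_push_tensor {B : C.Modules} (hB : PicF.IsInvertible B) {M : S.Modules} (hM : PicF.IsInvertible M) :
    Curv2.euler k S (CohB1.tensorMod ((Coh.push i).obj B) M) =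
      Curv2.euler k C B + Curv2.deg k C ((Scheme.Modules.pullback i).obj M) 1 := by
  haveI := isProper_curve k i hi
  haveI := CurvLib.isNoetherian k (X := C)
  have hMf : FlatMod.IsFinLocFree M := CurveVBLib.isFinLocFree_of_rank (CurvLib.locFree_of_isInvertible hM)
  have hPM := AmpleDevLib.isInvertible_pb i hM
  let pr := @asIso _ _ _ _ (ProjFormLib.projApp i M B) (ProjFormLib.isIso_projApp i hMf B)
  let e : CohB1.tensorMod ((Coh.push i).obj B) M ≅
      (Coh.push i).obj (CohB1.tensorMod ((Scheme.Modules.pullback i).obj M) B) :=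
    HilbPolyLib.swapIso _ _ ≪≫ pr
  have hTc : Coh.IsCoh (CohB1.tensorMod ((Scheme.Modules.pullback i).obj M) B) :=
    HilbPolyLib.isCoh_tensor hPM (CurvLib.isCoh_of_isInvertible hB)
  haveI := hTc.1
  rw [CurvLib.euler_congr (k := k) e, ← (PushLinLib.euler_push k i hi _).2]
  have h := GenusZeroLib.deg_tensor k hC hPM hB
  simp only [Curv2.deg] at h ⊢
  push_cast at h ⊢
  linarith

/-- `deg(M|_C) = χ(M) - χ(I ⊗ M) - χ(O_C)`. -/
theorem deg_restrict {M : S.Modules} (hM : PicF.IsInvertible M) :
    Curv2.deg k C ((Scheme.Modules.pullback i).obj M) 1 =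
      Curv2.euler k S M - Curv2.euler k S (CohB1.tensorMod M (ClSub.idealMod i.ker)) -
        Curv2.euler k C (Coh.structureModule C) := by
  haveI := CurvLib.isNoetherian k (X := S)
  obtain ⟨eq⟩ := SurfNumLib.quotMod_ker_iso i
  have h1 := euler_push_tensor k i hi hC CurvLib.isInvertible_structureModule hM
  rw [← CurvLib.euler_congr (k := k) (HilbPolyLib.congrLeft eq M),
    CurvLib.euler_congr (k := k) (HilbPolyLib.swapIso (ClSub.quotMod i.ker) M)] at h1
  have hQ := CurvLib.isCoh_quotMod i.ker
  have hO := DevissLib.isCoh_structureModule S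
  have h2 : Curv2.euler k S (CohB1.tensorMod M (Coh.structureModule S)) =
      Curv2.euler k S (CohB1.tensorMod M (ClSub.idealMod i.ker)) +
        Curv2.euler k S (CohB1.tensorMod M (ClSub.quotMod i.ker)) :=
    CurvLib.euler_add_of_isCoh (k := k) (S := (CurvLib.idealSeq i.ker).map (CurvLib.tensorLeft' M))
      (HilbPolyLib.shortExact_tensor hM (CurvLib.idealSeq_shortExact i.ker))
      (HilbPolyLib.isCoh_tensor hM (QCohLib.isCoh_kernel _ hO hQ.1)) (HilbPolyLib.isCoh_tensor hM hO)
      (HilbPolyLib.isCoh_tensor hM hQ)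
  rw [CurvLib.euler_congr (k := k) (HilbPolyLib.swapIso M (Coh.structureModule S) ≪≫ HilbPolyLib.unitLeft M)] at h2
  linarith

variable [SmoothOfRelativeDimension 2 (S ↘ Spec (CommRingCat.of k))] [IsNoetherian S] (hS : topologicalKrullDim S = 2)
  {L : S.Modules} (hA : CohB1.IsAmple L)

omit hi in
include hS in
theorem genRank_push {B : C.Modules} : CurvLib.genRank ((Coh.push i).obj B) = 0 := by
  have hη : genericPoint S ∉ CohB1.support ((Coh.push i).obj B) := fun h => by
    have h1 := DevissLib.support_push_subset i B h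
    have h2 : Set.range i = Set.univ := Set.eq_univ_of_forall fun x =>
      ((genericPoint_spec S).specializes trivial).mem_closed i.isClosedEmbedding.isClosed_range h1
    have h3 : IsHomeomorph (⇑i) := ⟨i.continuous,
      i.isClosedEmbedding.toIsEmbedding.isInducing.isOpenMap (by rw [h2]; exact isOpen_univ),
      ⟨i.isClosedEmbedding.injective, Set.range_eq_univ.1 h2⟩⟩
    have h4 := IsHomeomorph.topologicalKrullDim_eq _ h3
    rw [hC, hS] at h4
    exact absurd h4 (by decide)
  haveI : Subsingleton (((Coh.push i).obj B).presheaf.stalk (genericPoint S)) := not_not.1 hη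
  exact Module.finrank_zero_of_subsingleton

include hS hA

omit [SmoothOfRelativeDimension 2 (S ↘ Spec (CommRingCat.of k))] in
/-- Direct images of line bundles have the degree of the curve. -/
theorem c1_push {B : C.Modules} (hB : PicF.IsInvertible B) :
    c1 k L ((Coh.push i).obj B) = c1 k L (Coh.structureModule S) - c1 k L (ClSub.idealMod i.ker) := by
  have hQ := CurvLib.isCoh_quotMod i.ker
  have hO := DevissLib.isCoh_structureModule S
  obtain ⟨eq⟩ := SurfNumLib.quotMod_ker_iso i
  have e1 : HPoly k L (Coh.structureModule S) = HPoly k L (ClSub.idealMod i.ker) + HPoly k L (ClSub.quotMod i.ker) :=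
    StabLib.hPoly_add (S := CurvLib.idealSeq i.ker) hA (CurvLib.idealSeq_shortExact i.ker)
      (QCohLib.isCoh_kernel _ hO hQ.1) hO hQ
  rw [StabLib.hPoly_congr hA hQ eq] at e1
  have hPB := isCoh_push i hB
  have hPO := isCoh_push i (CurvLib.isInvertible_structureModule (X := C))
  have e2 : HPoly k L ((Coh.push i).obj B) = HPoly k L ((Coh.push i).obj (Coh.structureModule C)) +
      Polynomial.C ((Curv2.euler k C B : ℚ) - Curv2.euler k C (Coh.structureModule C)) :=
    HilbPolyLib.eq_of_eval_nat fun m => by
      rw [eval_add, eval_C, ← hPoly_spec hA hPB m, ← hPoly_spec hA hPO m, ShStab.twist, ShStab.twist,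
        euler_push_tensor k i hi hC hB (AmpleThLib.tensorPow_isInvertible hA.1 m),
        euler_push_tensor k i hi hC CurvLib.isInvertible_structureModule (AmpleThLib.tensorPow_isInvertible hA.1 m)]
      push_cast
      ring
  have h1 := congrArg (fun p : ℚ[X] => p.coeff 1) e1
  have h2 := congrArg (fun p : ℚ[X] => p.coeff 1) e2
  simp only [coeff_add, coeff_C, one_ne_zero, if_false, add_zero] at h1 h2
  simp only [c1]
  linarith

end LMLib

end
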