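import Groth.Agent.PicOneLib.Sat
import Groth.Agent.CubeConsLib.IsoCls

/-!
# Degrees of submodules of free modules; the group law of the Picard group
-/

set_option autoImplicit false
set_option linter.style.haveILetI false
set_option linter.unusedSectionVars false
set_option backward.isDefEq.respectTransparency false
set_option backward.isDefEq.respectTransparency.types false
universe u

open CategoryTheory CategoryTheory.Limits AlgebraicGeometry
open StabLib (HPoly)
open PicOneLib (c1 c2)

noncomputable section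

namespace LMLib

/-- The group law on invertible classes. -/
@[reducible] def law (Y : Scheme.{u}) : PicGrp.Law Y :=
  let mul : PicLoc.PicSet Y → PicLoc.PicSet Y → PicLoc.PicSet Y := fun a b =>
    ⟨PicGrp.mulCl a.1 b.1, by
      obtain ⟨L, hL, rfl⟩ := PicGrp.exists_eq_cls a
      obtain ⟨M, hM, rfl⟩ := PicGrp.exists_eq_cls b
      exact ⟨CohB1.tensorMod L M, (PicGrp.mulCl_cl L M).symm, HilbPolyLib.isInvertible_tensor hL hM⟩⟩
  have hinv : ∀ a : PicLoc.PicSet Y, ∃ b, mul b a = PicLoc.unitPicSet Y := fun a => by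
    obtain ⟨L, hL, rfl⟩ := PicGrp.exists_eq_cls a
    obtain ⟨e⟩ := MiscFlat6.nonempty_dualIso hL
    refine ⟨PicGrp.cls _ (MiscFlat6.dual_isInvertible hL), Subtype.ext ?_⟩
    exact (PicGrp.mulCl_cl _ _).trans ((PicGrp.cl_eq_cl_iff _ _).2 ⟨HilbPolyLib.swapIso _ _ ≪≫ e⟩)
  { mul := mul
    one := PicLoc.unitPicSet Y
    inv := fun a => (hinv a).choose
    mul_assoc := fun a b c => by
      obtain ⟨L, hL, rfl⟩ := PicGrp.exists_eq_cls a
      obtain ⟨M, hM, rfl⟩ := PicGrp.exists_eq_cls b
      obtain ⟨N, hN, rfl⟩ := PicGrp.exists_eq_cls c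
      exact Subtype.ext ((PicGrp.cl_eq_cl_iff _ _).2 ⟨HilbPolyLib.assocIso L M N⟩)
    one_mul := fun a => by
      obtain ⟨L, hL, rfl⟩ := PicGrp.exists_eq_cls a
      exact Subtype.ext ((PicGrp.cl_eq_cl_iff _ _).2 ⟨HilbPolyLib.unitLeft L⟩)
    mul_one := fun a => by
      obtain ⟨L, hL, rfl⟩ := PicGrp.exists_eq_cls a
      exact Subtype.ext ((PicGrp.cl_eq_cl_iff _ _).2 ⟨HilbPolyLib.swapIso _ _ ≪≫ HilbPolyLib.unitLeft L⟩)
    inv_mul_cancel := fun a => (hinv a).choose_spec
    mul_comm := fun a b => by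
      obtain ⟨L, hL, rfl⟩ := PicGrp.exists_eq_cls a
      obtain ⟨M, hM, rfl⟩ := PicGrp.exists_eq_cls b
      exact Subtype.ext ((PicGrp.cl_eq_cl_iff _ _).2 ⟨HilbPolyLib.swapIso L M⟩)
    mul_val := fun _ _ => rfl
    one_eq := rfl }

variable (k : Type u) [Field k] {S : Scheme.{u}} [S.Over (Spec (CommRingCat.of k))] [IsIntegral S]
  [IsNoetherian S] [IsProper (S ↘ Spec (CommRingCat.of k))]
  [SmoothOfRelativeDimension 2 (S ↘ Spec (CommRingCat.of k))] (hS : topologicalKrullDim S = 2)
  {L : S.Modules} (hA : CohB1.IsAmple L) [PicGrp.Law S]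
  (hgen : ∀ c : PicLoc.PicSet S, ∃ n : ℤ, c = PicGrp.cls L hA.1 ^ n)

include hS hA hgen

/-- Submodules of free modules have degree at most that of a free module of the same rank; in case
of equality they give sections. -/
theorem sub_free : ∀ (e : ℕ) {I : S.Modules} (_ : Coh.IsCoh I) (p : Fin e → (I ⟶ Coh.structureModule S)),
    (∀ {Z : S.Modules} (u : Z ⟶ I), (∀ j, u ≫ p j = 0) → u = 0) →
    ∃ n : ℤ, n ≤ 0 ∧
      c1 k L I = (CurvLib.genRank I : ℚ) * c1 k L (Coh.structureModule S) +
        2 * (n : ℚ) * c2 k L (Coh.structureModule S) ∧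
      (n = 0 → ¬ IsZero I → ∀ (W : S.Modules), FlatMod.IsFinLocFree W → ∀ (g : I ⟶ W), Mono g →
        ∃ s : Coh.structureModule S ⟶ W, s ≠ 0) := by
  intro e
  induction e with
  | zero =>
    intro I hI p hp
    have hz : IsZero I := (IsZero.iff_id_eq_zero I).2 (hp (𝟙 I) fun j => j.elim0)
    refine ⟨0, le_rfl, ?_, fun _ h => absurd hz h⟩
    rw [c1, StabLib.hPoly_zero hA hz, CurveVBLib.genRank_of_isZero hz]
    simp
  | succ e ih =>
    intro I hI p hp
    let O := Coh.structureModule S
    have hO : Coh.IsCoh O := DevissLib.isCoh_structureModule S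
    have hOf : FlatMod.IsFinLocFree O := Formal2VBLib.isFinLocFree_structureModule S
    have hOtf := PicOneLib.torsionFree_of_isFinLocFree hOf
    have hα := PicOneLib.alpha_pos' k hS hA
    have hK : Coh.IsCoh (kernel (p 0)) := QCohLib.isCoh_kernel (p 0) hI hO.1
    have hJ : Coh.IsCoh (Abelian.coimage (p 0)) := QCohLib.isCoh_cokernel (kernel.ι (p 0)) hK.1 hI
    obtain ⟨n, hn, hc, hg⟩ := ih hK (fun j => kernel.ι (p 0) ≫ p j.succ) (fun u hu => by
      rw [← cancel_mono (kernel.ι (p 0)), Limits.zero_comp]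
      refine hp _ fun j => ?_
      induction j using Fin.cases with
      | zero => rw [Category.assoc, kernel.condition, Limits.comp_zero]
      | succ j => rw [Category.assoc]; exact hu j)
    let m : Abelian.coimage (p 0) ⟶ O := Abelian.factorThruCoimage (p 0)
    obtain ⟨r1, e1⟩ := PicOneLib.genRank_coker k hS hA (kernel.ι (p 0)) hK hI
    obtain ⟨r2, -⟩ := PicOneLib.genRank_coker k hS hA m hJ hO
    have hO1 : CurvLib.genRank O = 1 := AVAmpleLib.genRank_structureModule S
    change CurvLib.genRank I = CurvLib.genRank (kernel (p 0)) + CurvLib.genRank (Abelian.coimage (p 0)) at r1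
    change c1 k L I = c1 k L (kernel (p 0)) + c1 k L (Abelian.coimage (p 0)) at e1
    have hJtf := PicOneLib.torsionFree_of_mono m hOtf
    by_cases hJ0 : CurvLib.genRank (Abelian.coimage (p 0)) = 0
    · have hz := PicOneLib.isZero_of_rank_zero k hS hA hJ hJtf hJ0
      haveI : IsIso (kernel.ι (p 0)) := by
        haveI : Epi (kernel.ι (p 0)) := Abelian.epi_of_cokernel_π_eq_zero _ (hz.eq_of_tgt _ _)
        exact isIso_of_mono_of_epi _
      refine ⟨n, hn, ?_, fun h0 hI0 W hW g hgm => ?_⟩
      · rw [e1, hc, r1, hJ0, show c1 k L (Abelian.coimage (p 0)) = 0 by rw [c1, StabLib.hPoly_zero hA hz, Polynomial.coeff_zero]]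
        push_cast
        ring
      · haveI := hgm
        exact hg h0 (fun h => hI0 (h.of_iso (asIso (kernel.ι (p 0))).symm)) W hW (kernel.ι (p 0) ≫ g) inferInstance
    · have hJ1 : CurvLib.genRank (Abelian.coimage (p 0)) = 1 := by omega
      obtain ⟨a, -, -, -, -, -, -, ha⟩ := PicOneLib.exists_class k hS hA hgen hJ hJtf hJ1
      obtain ⟨m1, m2⟩ := PicOneLib.c1_mono k hS hA m hJ hO (hJ1.trans hO1.symm)
      have ha0 : a ≤ 0 := by
        have : (a : ℚ) ≤ 0 := by rw [ha] at m1; nlinarith
        exact_mod_cast this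
      refine ⟨n + a, by omega, ?_, fun h0 hI0 W hW g hgm => ?_⟩
      · rw [e1, hc, ha, r1, hJ1]
        push_cast
        ring
      · haveI := hgm
        obtain rfl : n = 0 := by omega
        obtain rfl : a = 0 := by omega
        by_cases hK0 : IsZero (kernel (p 0))
        · haveI : Mono (p 0) := Preadditive.mono_of_cancel_zero _ fun u hu => by
            rw [← kernel.lift_ι (p 0) u hu, hK0.eq_of_src (kernel.ι (p 0)) 0, Limits.comp_zero]
          have hIr : CurvLib.genRank I = CurvLib.genRank O := by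
            rw [r1, hJ1, hO1, CurveVBLib.genRank_of_isZero hK0]
          have hfin := (PicOneLib.c1_mono k hS hA (p 0) hI hO hIr).2 (by
            rw [e1, hc, ha, CurveVBLib.genRank_of_isZero hK0]
            simp)
          obtain ⟨s, hs⟩ := PicOneLib.exists_extend_finite k hS hI hO (p 0) hfin hW g
          refine ⟨s, fun h => hI0 ?_⟩
          rw [h, Limits.comp_zero] at hs
          exact (IsZero.iff_id_eq_zero I).2 (by rw [← cancel_mono g, ← hs, Limits.comp_zero, Limits.comp_zero])
        · exact hg rfl hK0 W hW (kernel.ι (p 0) ≫ g) inferInstance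

end LMLib

end
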