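import Groth.Agent.PnDualLib.Hom
import Groth.Agent.RefHullLib.NormalHull
import Groth.Agent.HomCohLib.Adj
import Groth.Agent.HilbPolyLib.Twist
import Groth.Agent.ChernOpLib.Dual
import Mathlib.LinearAlgebra.Contraction

/-!
# The sheaf of homomorphisms out of a finite locally free module
-/

set_option autoImplicit false
set_option linter.style.haveILetI false
set_option linter.unusedSectionVars false
set_option backward.isDefEq.respectTransparency false
set_option backward.isDefEq.respectTransparency.types false
set_option maxRecDepth 8000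
set_option maxHeartbeats 800000
universe u

open CategoryTheory CategoryTheory.Limits AlgebraicGeometry TopologicalSpace Opposite
open scoped TensorProduct
open ProjFormLib (ger res ger_res ger_map exists_ger exists_frame)
open CohCmpLib (stk homMod evMod evS hVal homSec)
open KFlatLib (tens shTm stalkTensorLin)

noncomputable section

namespace LMLib

variable {X : Scheme.{u}}

theorem isLocSect_iff (F G : X.Modules) {U : X.Opens} (f : ∀ x : U, RefHull.StalkHom F G x.1) :
    RefHull.IsLocSect F G f ↔ (f : ∀ y : U, stk F y.1 →ₗ[X.presheaf.stalk y.1] stk G y.1) ∈ homSec F G U := by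
  constructor
  · intro h V hV m
    refine CohCmpLib.exists_section_of_germs G (fun y : V => f ⟨y.1, hV y.2⟩ (ger F y.1 y.2 m)) fun y => ?_
    obtain ⟨W, hW, j, n, hn⟩ := h V (homOfLE hV) m y
    refine ⟨W, j.le, hW, n, fun z hz => ?_⟩
    refine (hn ⟨z, hz⟩).symm.trans ?_
    rfl
  · intro h V i m x
    obtain ⟨p, hp⟩ := h V i.le m
    exact ⟨V, x.2, 𝟙 V, p, fun y => (hp y.1 y.2).symm⟩

/-- The two models of the sheaf of homomorphisms agree. -/
def homShIso (F G : X.Modules) : RefHull.homSh F G ≅ homMod F G where
  hom := RefHullLib.homMk (G := RefHull.homSh F G) (H := homMod F G)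
    (fun U =>
      { toFun := fun g => (show homSec F G U from ⟨g.1, (isLocSect_iff F G g.1).1 g.2⟩)
        map_zero' := rfl
        map_add' := fun _ _ => rfl })
    (fun U r s => rfl) (fun U V i s => rfl)
  inv := RefHullLib.homMk (G := homMod F G) (H := RefHull.homSh F G)
    (fun U =>
      { toFun := fun g => ⟨(show homSec F G U from g).1, (isLocSect_iff F G _).2 (show homSec F G U from g).2⟩
        map_zero' := rfl
        map_add' := fun _ _ => rfl })
    (fun U r s => rfl) (fun U V i s => rfl)
  hom_inv_id := RefHullLib.hom_ext_sections _ _ fun U s => rfl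
  inv_hom_id := RefHullLib.hom_ext_sections _ _ fun U s => rfl

open PnDualLib (twHom ins) in
/-- `L ⊗ Hom(M, N) → Hom(M, L ⊗ N)` is invertible for `M` finite locally free. -/
theorem isIso_twHom' (L : X.Modules) {M : X.Modules} (hM : FlatMod.IsFinLocFree M) (N : X.Modules) :
    IsIso (twHom L M N) := KFlatLib.isIso_of_stalks _ fun y => by
  refine (ConcreteCategory.isIso_iff_bijective _).mpr ?_
  let R := X.presheaf.stalk y
  obtain ⟨U, n, e, hy, he⟩ := exists_frame hM y
  haveI : Module.Free R (stk M y) := Module.Free.of_basis (he.basis y hy)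
  haveI : Module.Finite R (stk M y) := Module.Finite.of_basis (he.basis y hy)
  let ev := evS (evMod M N) y
  let ev' := evS (evMod M (tens L N)) y
  let τ := ((DerSch.stalkFunctor X y).map (twHom L M N)).hom
  let s := stalkTensorLin L N y
  let s' := stalkTensorLin L (homMod M N) y
  let rhs : (stk L y : Type u) ⊗[R] (stk (homMod M N) y : Type u) →ₗ[R]
      ((stk M y : Type u) →ₗ[R] (stk (tens L N) y : Type u)) :=
    (LinearMap.llcomp R (stk M y) _ _ s).comp
      ((TensorProduct.lTensorHomToHomLTensor (RingHom.id R) (stk M y) (stk L y) (stk N y)).comp (LinearMap.lTensor _ ev))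
  have key : ev'.comp (τ.comp s') = rhs := TensorProduct.ext' fun a h => by
    obtain ⟨V, hyV, a, rfl⟩ := exists_ger L y a
    obtain ⟨V', hyV', h, rfl⟩ := exists_ger (homMod M N) y h
    have hyW : y ∈ V ⊓ V' := ⟨hyV, hyV'⟩
    rw [← ger_res L (inf_le_left : V ⊓ V' ≤ V) y hyW a, ← ger_res (homMod M N) (inf_le_right : V ⊓ V' ≤ V') y hyW h]
    refine LinearMap.ext fun m => ?_
    let a' : Γ(L, V ⊓ V') := res L inf_le_left a
    let h' : Γ(homMod M N, V ⊓ V') := res (homMod M N) inf_le_right h
    have e1 : τ (s' (ger L y hyW a' ⊗ₜ ger (homMod M N) y hyW h')) =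
        ger (homMod M (tens L N)) y hyW ((twHom L M N).app (V ⊓ V') (shTm a' h')) :=
      (congrArg τ (KFlatLib.stalkTensorLin_germ L (homMod M N) y hyW a' h')).trans (ger_map (twHom L M N) y hyW _)
    refine (congrArg (fun z => ev' z m) e1).trans ?_
    refine (LinearMap.congr_fun (CohCmpLib.evS_evMod ((twHom L M N).app (V ⊓ V') (shTm a' h')) y hyW) m).trans ?_
    refine (LinearMap.congr_fun (PnDualLib.hVal_twHom L M N a' h' y hyW) m).trans ?_
    show ins L N y (ger L y hyW a') (hVal h' y hyW m) = s ((ger L y hyW a') ⊗ₜ (ev (ger (homMod M N) y hyW h')) m)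
    exact congrArg (fun z => ins L N y (ger L y hyW a') z)
      (LinearMap.congr_fun (CohCmpLib.evS_evMod h' y hyW) m).symm
  have hev : Function.Bijective ev := CohCmpLib.homEv_evMod hM y
  have hev' : Function.Bijective ev' := CohCmpLib.homEv_evMod hM y
  have hs : Function.Bijective s := KFlatLib.stalkTensorLin_bijective L N y
  have hs' : Function.Bijective s' := KFlatLib.stalkTensorLin_bijective L (homMod M N) y
  have h1 : Function.Bijective (LinearMap.lTensor (stk L y : Type u) ev) :=
    ((LinearEquiv.ofBijective ev hev).lTensor (stk L y : Type u)).bijective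
  have h2 : Function.Bijective (TensorProduct.lTensorHomToHomLTensor (RingHom.id R) (stk M y) (stk L y) (stk N y)) := by
    rw [← lTensorHomEquivHomLTensor_toLinearMap]
    exact LinearEquiv.bijective _
  have h3 : Function.Bijective (LinearMap.llcomp R (stk M y) _ _ s) :=
    (LinearEquiv.congrRight (M₂ := (stk L y : Type u) ⊗[R] (stk N y : Type u)) (LinearEquiv.ofBijective s hs)).bijective
  have hr : Function.Bijective rhs := (h3.comp h2).comp h1
  have h4 : Function.Bijective (ev' ∘ (τ ∘ s')) := by
    have : (ev' ∘ (τ ∘ s')) = rhs := funext fun t => LinearMap.congr_fun key t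
    rw [this]; exact hr
  exact (Function.Bijective.of_comp_iff τ hs').1 ((Function.Bijective.of_comp_iff' hev' _).1 h4)

/-- `Hom(M, G) ≅ G ⊗ Hom(M, O)`. -/
theorem exists_homMod_iso_tensor {M : X.Modules} (hM : FlatMod.IsFinLocFree M) (G : X.Modules) :
    Nonempty (homMod M G ≅ CohB1.tensorMod (ChernOpLib.du M) G) := by
  haveI := isIso_twHom' G hM (Coh.structureModule X)
  haveI : DCoh.HasSheafHom M := (HomCohLib.homAdj M).isLeftAdjoint
  let c : homMod M (tens G (Coh.structureModule X)) ≅ homMod M G :=
    (HomCohLib.sheafHomIso M _).symm ≪≫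
      (DCoh.sheafHom M).mapIso (HilbPolyLib.swapIso G (Coh.structureModule X) ≪≫ HilbPolyLib.unitLeft G) ≪≫
        HomCohLib.sheafHomIso M G
  exact ⟨c.symm ≪≫ (asIso (PnDualLib.twHom G M (Coh.structureModule X))).symm ≪≫ HilbPolyLib.swapIso G _⟩

/-- The sheaf of homomorphisms as a tensor product with the dual. -/
theorem exists_homSh_iso_tensor {M : X.Modules} (hM : FlatMod.IsFinLocFree M) (G : X.Modules) :
    Nonempty (RefHull.homSh M G ≅ CohB1.tensorMod (RefHull.dual M) G) := by
  obtain ⟨e⟩ := exists_homMod_iso_tensor hM G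
  exact ⟨homShIso M G ≪≫ e ≪≫ HilbPolyLib.congrLeft (homShIso M (Coh.structureModule X)).symm G⟩

end LMLib

end
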