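import Groth.Agent.LMLib.Duality
import Groth.Agent.RefHullLib.Reflexive
import Groth.Agent.VBPnLib.Basic

/-!
# The endomorphism sheaf of a vector bundle is self-dual
-/

set_option autoImplicit false
set_option linter.style.haveILetI false
set_option linter.unusedSectionVars false
set_option backward.isDefEq.respectTransparency false
set_option backward.isDefEq.respectTransparency.types false
set_option maxHeartbeats 800000
universe u

open CategoryTheory CategoryTheory.Limits AlgebraicGeometry
open CohCmpLib (homMod)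

noncomputable section

namespace LMLib

variable {X : Scheme.{u}}

/-- Isomorphic modules have isomorphic sheaves of homomorphisms. -/
def homModLeftIso {A B : X.Modules} (e : A ≅ B) (P : X.Modules) : homMod A P ≅ homMod B P :=
  ((HomCohLib.homAdj A).rightAdjointUniq
    ((HomCohLib.homAdj B).ofNatIsoLeft (((DCoh.tensorBi (X := X)).mapIso e).symm))).app P

/-- Currying. -/
def homModTensorIso (A B P : X.Modules) : homMod (CohB1.tensorMod A B) P ≅ homMod B (homMod A P) :=
  ((HomCohLib.homAdj (CohB1.tensorMod A B)).rightAdjointUniq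
    ((((HomCohLib.homAdj B).comp (HomCohLib.homAdj A))).ofNatIsoLeft (VBP1Lib.compIso A B).symm)).app P

/-- Covariant functoriality. -/
theorem nonempty_homMod_right (A : X.Modules) {P P' : X.Modules} (e : P ≅ P') :
    Nonempty (homMod A P ≅ homMod A P') := by
  haveI : DCoh.HasSheafHom A := (HomCohLib.homAdj A).isLeftAdjoint
  exact ⟨(HomCohLib.sheafHomIso A P).symm ≪≫ (DCoh.sheafHom A).mapIso e ≪≫ HomCohLib.sheafHomIso A P'⟩

theorem exists_bidual [IsLocallyNoetherian X] {F : X.Modules} (hF : FlatMod.IsFinLocFree F) :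
    Nonempty (ChernOpLib.du (ChernOpLib.du F) ≅ F) := by
  have h : RefHull.IsReflexive F := by
    refine (RefHullLib.isReflexive_iff (LocSuppLib.isCoh_of_isFinLocFree hF)).2 fun x => ?_
    obtain ⟨U, n, e, hx, he⟩ := ProjFormLib.exists_frame hF x
    let b : Module.Basis (Fin n) (X.presheaf.stalk x) (F.presheaf.stalk x) := he.basis x hx
    haveI := Module.Free.of_basis b
    haveI := Module.Finite.of_basis b
    show Module.IsReflexive (X.presheaf.stalk x) (F.presheaf.stalk x)
    infer_instance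
  haveI : IsIso (RefHull.bidualMap F) := h
  exact ⟨homModLeftIso (homShIso F (Coh.structureModule X)).symm (Coh.structureModule X) ≪≫
    (homShIso (RefHull.dual F) (Coh.structureModule X)).symm ≪≫ (asIso (RefHull.bidualMap F)).symm⟩

/-- `(End F)^∨ ≅ End F`. -/
theorem exists_end_selfdual [IsLocallyNoetherian X] {F : X.Modules} (hF : FlatMod.IsFinLocFree F) :
    Nonempty (homMod (homMod F F) (Coh.structureModule X) ≅ homMod F F) := by
  obtain ⟨e⟩ := exists_homMod_iso_tensor hF F
  obtain ⟨b⟩ := exists_bidual hF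
  obtain ⟨c⟩ := nonempty_homMod_right F b
  exact ⟨homModLeftIso e _ ≪≫ homModTensorIso _ _ _ ≪≫ c⟩

variable (k : Type u) [Field k] [X.Over (Spec (CommRingCat.of k))]

/-- Global endomorphisms. -/
theorem finrank_h0_homMod (M P : X.Modules) :
    Module.finrank k (Coh.HH X (homMod M P) 0) = Module.finrank k (M ⟶ P) := by
  rw [← GenusOneSSLib.finrank_hom]
  refine (LinearEquiv.ofBijective (VBPnLib.shL (k := k) M P) ⟨fun σ τ h => ?_, VBPnLib.shL_surjective M P⟩).finrank_eq
  have h' := congrArg Formal2VBLib.oh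
    (show Formal2VBLib.sh (σ.app ⊤ (GenusOneSSLib.oneS X)) = Formal2VBLib.sh (τ.app ⊤ (GenusOneSSLib.oneS X)) from h)
  rw [Formal2VBLib.oh_sh, Formal2VBLib.oh_sh] at h'
  rw [← GenusOneSSLib.eq_unitHom σ, ← GenusOneSSLib.eq_unitHom τ, h']

/-- On a surface with trivial canonical module a simple bundle has `χ(End) ≤ 2`. -/
theorem euler_end_le [IsAlgClosed k] [IsIntegral X] [IsProper (X ↘ Spec (CommRingCat.of k))]
    [SmoothOfRelativeDimension 2 (X ↘ Spec (CommRingCat.of k))] (hX : topologicalKrullDim X = 2)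
    (hK : Canon.IsTopDiff (X ↘ Spec (CommRingCat.of k)) 2 (Coh.structureModule X))
    {r : ℕ} (ι : X ⟶ CohB1.ProjSpace r k) [IsClosedImmersion ι]
    (hι : ι ≫ CohB1.ProjSpace.toSpec r k = X ↘ Spec (CommRingCat.of k))
    {n : ℕ} {F : X.Modules} (hF : FlatMod.IsFinLocFreeOfRank n F) (hs : ∀ φ : F ⟶ F, ∃ c : k, φ = c • 𝟙 F) :
    Curv2.euler k X (RefHull.homSh F F) ≤ 2 := by
  haveI := CurvLib.isNoetherian k (X := X)
  have hle : Module.finrank k (F ⟶ F) ≤ 1 := finrank_le_one (𝟙 F) fun φ => by
    obtain ⟨c, hc⟩ := hs φ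
    exact ⟨c, hc.symm⟩
  have hEnd : FlatMod.IsFinLocFree (homMod F F) :=
    CurveVBLib.isFinLocFree_of_rank (CycTopLib.rank_homMod hF hF)
  obtain ⟨d⟩ := exists_end_selfdual (CurveVBLib.isFinLocFree_of_rank hF)
  have h2 : Module.finrank k (Coh.HH X (homMod F F) 2) ≤ 1 := by
    rw [hh_dual k ι hι 2 hK hEnd 2 le_rfl, ← HodgeIdxLib.hh, HodgeIdxLib.hh_congr (k := k) d (2 - 2)]
    show Module.finrank k (Coh.HH X (homMod F F) 0) ≤ 1
    rw [finrank_h0_homMod]
    exact hle
  rw [CurvLib.euler_congr (k := k) (homShIso F F), SurfNumLib.euler_eq_three hX.le]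
  simp only [HodgeIdxLib.hh]
  rw [finrank_h0_homMod]
  omega

end LMLib

end
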