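import Groth.Agent.LMLib.Rank
import Groth.Agent.PicOneLib.Twist
import Groth.Agent.LMLib.Push
import Groth.Agent.SurfExtLib.Elem
import Groth.Agent.GenusOneSSLib.Basic
import Groth.Agent.AmpleThLib.Ample

/-!
# Lazarsfeld–Mukai bundles: numerical invariants
-/

set_option autoImplicit false
set_option linter.style.haveILetI false
set_option linter.unusedSectionVars false
set_option backward.isDefEq.respectTransparency false
set_option backward.isDefEq.respectTransparency.types false
set_option maxHeartbeats 800000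
universe u

open CategoryTheory CategoryTheory.Limits AlgebraicGeometry Polynomial
open StabLib (HPoly)
open PicOneLib (c1 c2)

noncomputable section

namespace LMLib

/-- Coordinates of a free module. -/
def proj (X : Scheme.{u}) (e : ℕ) (j : Fin e) : FlatMod.freeMod X e ⟶ Coh.structureModule X :=
  (biproduct.isoCoproduct fun _ : Fin e => Coh.structureModule X).inv ≫
    biproduct.π (fun _ : Fin e => Coh.structureModule X) j

theorem eq_zero_of_proj {X : Scheme.{u}} {e : ℕ} {Z : X.Modules} (u : Z ⟶ FlatMod.freeMod X e)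
    (h : ∀ j, u ≫ proj X e j = 0) : u = 0 := by
  rw [← cancel_mono (biproduct.isoCoproduct fun _ : Fin e => Coh.structureModule X).inv, Limits.zero_comp]
  exact biproduct.hom_ext _ _ fun j => by rw [Category.assoc, Limits.zero_comp]; exact h j

section Pol

variable (k : Type u) [Field k] {S : Scheme.{u}} [S.Over (Spec (CommRingCat.of k))] [IsIntegral S]
  [IsNoetherian S] [IsProper (S ↘ Spec (CommRingCat.of k))]
  [SmoothOfRelativeDimension 2 (S ↘ Spec (CommRingCat.of k))] (hS : topologicalKrullDim S = 2)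

include k hS

/-- The inverse of an ideal generating the Picard group is ample as soon as an ample module exists. -/
theorem exists_polarisation [PicGrp.Law S] {H : S.Modules} (hH : CohB1.IsAmple H) {I : S.IdealSheafData}
    (hI : PicF.IsInvertible (ClSub.idealMod I))
    (hgen : ∀ c : PicLoc.PicSet S, ∃ n : ℤ, c = PicGrp.cls (ClSub.idealMod I) hI ^ n) :
    ∃ (G : S.Modules) (hG : CohB1.IsAmple G),
      PicGrp.cls (ClSub.idealMod I) hI = PicGrp.cls G hG.1 ^ (-1 : ℤ) ∧
      ∀ c : PicLoc.PicSet S, ∃ n : ℤ, c = PicGrp.cls G hG.1 ^ n := by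
  let O := Coh.structureModule S
  obtain ⟨n, hn⟩ := hgen (PicGrp.cls H hH.1)
  have hα := PicOneLib.alpha_pos' k hS hH
  have hO : Coh.IsCoh O := DevissLib.isCoh_structureModule S
  have hO1 : CurvLib.genRank O = 1 := AVAmpleLib.genRank_structureModule S
  obtain ⟨hH1, hHr⟩ := PicOneLib.c1_class k hS hH hH.1 (a := 1) (zpow_one _).symm
  rw [Int.cast_one, mul_one] at hH1
  have key : ∀ j : ℕ, ∃ f : CohB1.tensorPow (ClSub.idealMod I) j ⟶ O, Mono f := fun j => by
    induction j with
    | zero => exact ⟨𝟙 O, inferInstance⟩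
    | succ j ih =>
      obtain ⟨f, hf⟩ := ih
      haveI : Mono (ClSub.idealModι I) := (CurvLib.idealSeq_shortExact I).mono_f
      haveI : Mono ((CurvLib.tensorLeft' (CohB1.tensorPow (ClSub.idealMod I) j)).map (ClSub.idealModι I)) :=
        (HilbPolyLib.shortExact_tensor (AmpleThLib.tensorPow_isInvertible hI j)
          (PicOneLib.ses_coker (ClSub.idealModι I))).mono_f
      let e : (CurvLib.tensorLeft' (CohB1.tensorPow (ClSub.idealMod I) j)).obj O ≅
          CohB1.tensorPow (ClSub.idealMod I) j := HilbPolyLib.swapIso _ O ≪≫ HilbPolyLib.unitLeft _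
      haveI := hf
      exact ⟨(CurvLib.tensorLeft' (CohB1.tensorPow (ClSub.idealMod I) j)).map (ClSub.idealModι I) ≫ e.hom ≫ f,
        inferInstance⟩
  have hneg : n < 0 := by
    by_contra hpos
    obtain ⟨j, rfl⟩ := Int.eq_ofNat_of_zero_le (not_lt.1 hpos)
    rw [zpow_natCast] at hn
    have h' := congrArg Subtype.val hn
    rw [PicGrp.cls_val, PicGrp.cls_pow_val, PicGrp.cl_eq_cl_iff] at h'
    obtain ⟨e⟩ := h'
    obtain ⟨f, hf⟩ := key j
    haveI := hf
    have hle := (PicOneLib.c1_mono k hS hH (e.hom ≫ f) (CurvLib.isCoh_of_isInvertible hH.1) hO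
      (hHr.trans hO1.symm)).1
    linarith
  obtain ⟨G, hG, hGI, ⟨e⟩⟩ := PicOneLib.exists_inverse hI
  obtain ⟨j, hj⟩ : ∃ j : ℕ, (j : ℤ) = -n := ⟨(-n).toNat, Int.toNat_of_nonneg (by omega)⟩
  have hGH : (PicGrp.cls G hG ^ j).1 = (PicGrp.cls H hH.1).1 := by
    rw [hn, hGI, ← zpow_natCast, inv_zpow', hj, neg_neg]
  rw [PicGrp.cls_val, PicGrp.cls_pow_val, PicGrp.cl_eq_cl_iff] at hGH
  obtain ⟨eH⟩ := hGH
  have hGa : CohB1.IsAmple G := (AmpleThLib.isAmple_tensorPow_iff hG (by omega : 0 < j)).2
    (AmpleDevLib.isAmple_of_iso hH.1 (AmpleThLib.tensorPow_isInvertible hG j) eH.symm hH)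
  refine ⟨G, hGa, ?_, fun c => ?_⟩
  · rw [zpow_neg_one, show PicGrp.cls G hGa.1 = (PicGrp.cls (ClSub.idealMod I) hI)⁻¹ from hGI, inv_inv]
  · obtain ⟨m, hm⟩ := hgen c
    exact ⟨-m, by rw [hm, show PicGrp.cls G hGa.1 = (PicGrp.cls (ClSub.idealMod I) hI)⁻¹ from hGI, inv_zpow', neg_neg]⟩

end Pol

variable (k : Type u) [Field k] [IsAlgClosed k] {S : Scheme.{u}} [S.Over (Spec (CommRingCat.of k))] [IsIntegral S]
  [IsNoetherian S] [IsProper (S ↘ Spec (CommRingCat.of k))]
  [SmoothOfRelativeDimension 2 (S ↘ Spec (CommRingCat.of k))] (hS : topologicalKrullDim S = 2)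
  {C : Scheme.{u}} [C.Over (Spec (CommRingCat.of k))] [IsIntegral C] (hC : topologicalKrullDim C = 1)
  (i : C ⟶ S) [IsClosedImmersion i] (hi : i ≫ (S ↘ Spec (CommRingCat.of k)) = C ↘ Spec (CommRingCat.of k))
  {A : C.Modules} (hA : PicF.IsInvertible A) {e : ℕ} (lam : FlatMod.freeMod S e ⟶ (Coh.push i).obj A) [Epi lam]

include k hS hC hA

/-- The kernel is locally free. -/
theorem isFinLocFree_kernel_lam : FlatMod.IsFinLocFree (kernel lam) :=
  SurfExtLib.isFinLocFree_kernel hS.le (fun x => SurfExtLib.regular_stalk (k := k) x) i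
    (by rw [hC]; exact one_ne_zero) A (CurvLib.isCoh_of_isInvertible hA)
    (PicOneLib.torsionFree_of_isFinLocFree (CurveVBLib.isFinLocFree_of_rank (CurvLib.locFree_of_isInvertible hA)))
    (FlatMod.freeMod S e) (CurveVBLib.isFinLocFree_of_rank (GenusOneSSLib.locFree_free (X := S) (n := e))) lam

theorem isCoh_kernel_lam : Coh.IsCoh (kernel lam) :=
  LocSuppLib.isCoh_of_isFinLocFree (isFinLocFree_kernel_lam k hS hC i hA lam)

theorem genRank_kernel_lam : CurvLib.genRank (kernel lam) = e := by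
  have hQ := isCoh_push i hA
  have hE : Coh.IsCoh (FlatMod.freeMod S e) := ⟨CurvLib.isQCoh_freeMod S e, CurvLib.isFT_freeMod S e⟩
  have h : CurvLib.genRank (FlatMod.freeMod S e) =
      CurvLib.genRank (kernel lam) + CurvLib.genRank ((Coh.push i).obj A) :=
    CurvLib.genRank_add (S := ShortComplex.mk _ _ (kernel.condition lam)) (PicOneLib.ses_kernel lam)
      (isCoh_kernel_lam k hS hC i hA lam) hE hQ
  rw [genRank_push i hC hS, CurveVBLib.genRank_eq (GenusOneSSLib.locFree_free (X := S) (n := e)), add_zero] at h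
  exact h.symm

omit hC hA in
/-- No sections. -/
theorem section_eq_zero (hlam : Function.Injective (Sheaf.H.map ((SheafOfModules.toSheaf _).map lam) 0))
    (s : Coh.structureModule S ⟶ kernel lam) : s = 0 := by
  rw [← cancel_mono (kernel.ι lam), Limits.zero_comp]
  refine (GenusOneSSLib.homEquiv (k := k) (FlatMod.freeMod S e)).injective (hlam ?_)
  show CurvLib.hMap (k := k) lam 0 (GenusOneSSLib.homEquiv (k := k) (FlatMod.freeMod S e) (s ≫ kernel.ι lam)) =
    CurvLib.hMap (k := k) lam 0 (GenusOneSSLib.homEquiv (k := k) (FlatMod.freeMod S e) 0)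
  rw [map_zero, map_zero]
  show CurvLib.hMap (k := k) lam 0 (CurvLib.hMap (k := k) (s ≫ kernel.ι lam) 0 (GenusOneSSLib.one S)) = 0
  rw [← CurvLib.hMap_comp, Category.assoc, kernel.condition, Limits.comp_zero]
  have h := GenusOneSSLib.hMapL (k := k) (X := S) (M := Coh.structureModule S) (N := (Coh.push i).obj A) 0
    (GenusOneSSLib.one S)
  exact map_zero (GenusOneSSLib.hMapL (k := k) (N := (Coh.push i).obj A) 0 (GenusOneSSLib.one S))

variable {L : S.Modules} (hL : CohB1.IsAmple L) [PicGrp.Law S]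
  (hgen : ∀ c : PicLoc.PicSet S, ∃ n : ℤ, c = PicGrp.cls L hL.1 ^ n)

include hL

omit hC hA in
theorem hPoly_freeMod (m : ℕ) : HPoly k L (FlatMod.freeMod S m) = (m : ℚ) • HPoly k L (Coh.structureModule S) := by
  have hE : ∀ q, Coh.IsCoh (FlatMod.freeMod S q) := fun q => ⟨CurvLib.isQCoh_freeMod S q, CurvLib.isFT_freeMod S q⟩
  have hO := DevissLib.isCoh_structureModule S
  induction m with
  | zero =>
    rw [StabLib.hPoly_zero hL ((IsZero.iff_id_eq_zero _).2 (eq_zero_of_proj _ fun j => j.elim0)), Nat.cast_zero,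
      zero_smul]
  | succ m ih =>
    have e : HPoly k L (Coh.structureModule S ⊞ FlatMod.freeMod S m) =
        HPoly k L (Coh.structureModule S) + HPoly k L (FlatMod.freeMod S m) :=
      StabLib.hPoly_add (S := ShortComplex.mk biprod.inl biprod.snd biprod.inl_snd) hL
        (ShortComplex.Splitting.shortExact
          { r := biprod.fst, s := biprod.inr, f_r := biprod.inl_fst, s_g := biprod.inr_snd, id := biprod.total })
        hO (DevissLib.isCoh_biprod hO (hE m)) (hE m)
    rw [StabLib.hPoly_congr hL (hE (m + 1)) (CurvLib.freeModSucc S m), e, ih]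
    push_cast
    rw [add_smul, one_smul, add_comm]

include hi hgen in
theorem c1_kernel_lam (hI : PicF.IsInvertible (ClSub.idealMod i.ker))
    (hIc : PicGrp.cls (ClSub.idealMod i.ker) hI = PicGrp.cls L hL.1 ^ (-1 : ℤ)) :
    c1 k L (kernel lam) = (e : ℚ) * c1 k L (Coh.structureModule S) - 2 * c2 k L (Coh.structureModule S) := by
  have hQ := isCoh_push i hA
  have hE : Coh.IsCoh (FlatMod.freeMod S e) := ⟨CurvLib.isQCoh_freeMod S e, CurvLib.isFT_freeMod S e⟩
  have h : HPoly k L (FlatMod.freeMod S e) = HPoly k L (kernel lam) + HPoly k L ((Coh.push i).obj A) :=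
    StabLib.hPoly_add (S := ShortComplex.mk _ _ (kernel.condition lam)) hL (PicOneLib.ses_kernel lam)
      (isCoh_kernel_lam k hS hC i hA lam) hE hQ
  have hp := c1_push k i hi hC hS hL hA
  rw [(PicOneLib.c1_class k hS hL hI hIc).1] at hp
  push_cast at hp
  rw [hPoly_freeMod k hS hL] at h
  have h1 := congrArg (fun p : ℚ[X] => p.coeff 1) h
  simp only [coeff_add, coeff_smul, smul_eq_mul] at h1
  simp only [c1, c2] at hp ⊢
  linarith

include hgen in
/-- Nonzero submodules have negative degree. -/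
theorem c1_sub_le (hlam : Function.Injective (Sheaf.H.map ((SheafOfModules.toSheaf _).map lam) 0))
    {J : S.Modules} (hJ : Coh.IsCoh J) (hJ0 : ¬ IsZero J) (j : J ⟶ kernel lam) [Mono j] :
    c1 k L J ≤ (CurvLib.genRank J : ℚ) * c1 k L (Coh.structureModule S) - 2 * c2 k L (Coh.structureModule S) := by
  obtain ⟨n, hn, hc, hsec⟩ := sub_free k hS hL hgen e hJ (fun q => j ≫ kernel.ι lam ≫ proj S e q) (fun u hu => by
    rw [← cancel_mono j, ← cancel_mono (kernel.ι lam), Limits.zero_comp, Limits.zero_comp]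
    exact eq_zero_of_proj _ fun q => by simpa [Category.assoc] using hu q)
  have hn0 : n ≠ 0 := fun h => by
    obtain ⟨s, hs⟩ := hsec h hJ0 _ (isFinLocFree_kernel_lam k hS hC i hA lam) j inferInstance
    exact hs (section_eq_zero k hS i lam hlam s)
  have h1 : (n : ℚ) ≤ -1 := by exact_mod_cast (show n ≤ -1 by omega)
  have hα := PicOneLib.alpha_pos' k hS hL
  rw [hc]
  nlinarith

end LMLib

end
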