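import Groth.Agent.LMLib.Duality
import Groth.Agent.LMLib.Setup
import Groth.Agent.RRVanLib.GG
import Groth.Agent.AVIndexLib.HodgeDim
import Groth.Agent.AVIndexLib.MumfordEuler
import Groth.Agent.PerfLib.Restrict
import Groth.Agent.CycTopLib.Bundle

/-!
# The Euler characteristic of the endomorphisms of a Lazarsfeld–Mukai bundle
-/

set_option autoImplicit false
set_option linter.style.haveILetI false
set_option linter.unusedSectionVars false
set_option backward.isDefEq.respectTransparency false
set_option backward.isDefEq.respectTransparency.types false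
set_option maxHeartbeats 800000
universe u

open CategoryTheory CategoryTheory.Limits AlgebraicGeometry

noncomputable section

namespace LMLib

variable (k : Type u) [Field k] [IsAlgClosed k] {S : Scheme.{u}} [S.Over (Spec (CommRingCat.of k))] [IsIntegral S]
  [IsNoetherian S] [IsProper (S ↘ Spec (CommRingCat.of k))]
  [SmoothOfRelativeDimension 2 (S ↘ Spec (CommRingCat.of k))] (hS : topologicalKrullDim S = 2)
  {C : Scheme.{u}} [C.Over (Spec (CommRingCat.of k))] [IsIntegral C] (hC : topologicalKrullDim C = 1)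
  (i : C ⟶ S) [IsClosedImmersion i]

include k hS hC

/-- The ideal of a curve on a smooth surface is invertible. -/
theorem isInvertible_ideal : PicF.IsInvertible (ClSub.idealMod i.ker) := by
  haveI : IsLocallyNoetherian C := LocallyOfFiniteType.isLocallyNoetherian i
  obtain ⟨eq⟩ := SurfNumLib.quotMod_ker_iso i
  have hO := CurvLib.isInvertible_structureModule (X := S)
  have hQ := CurvLib.isCoh_quotMod i.ker
  have hI : Coh.IsCoh (ClSub.idealMod i.ker) := QCohLib.isCoh_kernel _ (DevissLib.isCoh_structureModule S) hQ.1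
  haveI : Epi (ClSub.toSubscheme i.ker) := CurvLib.epi_toSubscheme i.ker
  have hK : FlatMod.IsFinLocFree (kernel (ClSub.toSubscheme i.ker ≫ eq.hom)) :=
    SurfExtLib.isFinLocFree_kernel hS.le (fun x => SurfExtLib.regular_stalk (k := k) x) i
      (by rw [hC]; exact one_ne_zero) (Coh.structureModule C)
      (CurvLib.isCoh_of_isInvertible CurvLib.isInvertible_structureModule)
      (PicOneLib.torsionFree_of_isFinLocFree
        (CurveVBLib.isFinLocFree_of_rank (CurvLib.locFree_of_isInvertible CurvLib.isInvertible_structureModule)))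
      (Coh.structureModule S) (CurveVBLib.isFinLocFree_of_rank (CurvLib.locFree_of_isInvertible hO)) _
  have hf : FlatMod.IsFinLocFree (ClSub.idealMod i.ker) :=
    Groth.Agent.PerfLib.isFinLocFree_of_iso (kernelCompMono (ClSub.toSubscheme i.ker) eq.hom) hK
  have hr : CurvLib.genRank (Coh.structureModule S) =
      CurvLib.genRank (ClSub.idealMod i.ker) + CurvLib.genRank (ClSub.quotMod i.ker) :=
    CurvLib.genRank_add (S := CurvLib.idealSeq i.ker) (CurvLib.idealSeq_shortExact i.ker) hI
      (DevissLib.isCoh_structureModule S) hQ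
  rw [AVAmpleLib.genRank_structureModule S,
    show CurvLib.genRank (ClSub.quotMod i.ker) = CurvLib.genRank ((Coh.push i).obj (Coh.structureModule C)) from
      ((DerSch.stalkFunctor S (genericPoint S)).mapIso eq).toLinearEquiv.finrank_eq, genRank_push i hC hS, add_zero] at hr
  refine (CohCmpLib.invertible_iff_rank_one _).2 ?_
  rw [hr]
  exact CurveVBLib.rank_genRank hf

variable (hi : i ≫ (S ↘ Spec (CommRingCat.of k)) = C ↘ Spec (CommRingCat.of k))
  [Smooth (C ↘ Spec (CommRingCat.of k))]
  (hK : Canon.IsTopDiff (S ↘ Spec (CommRingCat.of k)) 2 (Coh.structureModule S))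
  (hq : Module.finrank k (Coh.HH S (Coh.structureModule S) 1) = 0)
  {r : ℕ} (ι : S ⟶ CohB1.ProjSpace r k) [IsClosedImmersion ι]
  (hι : ι ≫ CohB1.ProjSpace.toSpec r k = S ↘ Spec (CommRingCat.of k))

include hi hK hq hι

omit hC hi in
theorem euler_structure : Curv2.euler k S (Coh.structureModule S) = 2 := by
  have h0 : Module.finrank k (Coh.HH S (Coh.structureModule S) 0) = 1 := RRVanLib.finrank_h0_structure
  have h2 : Module.finrank k (Coh.HH S (Coh.structureModule S) 2) = 1 := by
    rw [← HodgeIdxLib.hh, SurfNumLib.hh_dual ι hι hK CurvLib.isInvertible_structureModule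
      (HilbPolyLib.unitLeft (Coh.structureModule S)) 2 le_rfl,
      HodgeIdxLib.hh_congr (k := k) (HilbPolyLib.unitLeft (Coh.structureModule S)) (2 - 2)]
    exact h0
  rw [SurfNumLib.euler_eq_three hS.le]
  simp only [HodgeIdxLib.hh]
  rw [h0, hq, h2]
  norm_num

/-- The self-intersection of the curve. -/
theorem deg_ideal :
    Curv2.deg k C ((Scheme.Modules.pullback i).obj (ClSub.idealMod i.ker)) 1 =
      2 * Curv2.euler k C (Coh.structureModule C) ∧
    Curv2.euler k S (ClSub.idealMod i.ker) = 2 - Curv2.euler k C (Coh.structureModule C) := by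
  haveI : Smooth (S ↘ Spec (CommRingCat.of k)) :=
    ‹SmoothOfRelativeDimension 2 (S ↘ Spec (CommRingCat.of k))›.smooth
  have hI := isInvertible_ideal k hS hC i
  have hO2 := euler_structure k hS hK hq ι hι
  obtain ⟨eq⟩ := SurfNumLib.quotMod_ker_iso i
  haveI := isProper_curve k i hi
  have hQ := CurvLib.isCoh_quotMod i.ker
  have h1 : Curv2.euler k S (ClSub.idealMod i.ker) = 2 - Curv2.euler k C (Coh.structureModule C) := by
    have h : Curv2.euler k S (Coh.structureModule S) =
        Curv2.euler k S (ClSub.idealMod i.ker) + Curv2.euler k S (ClSub.quotMod i.ker) :=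
      CurvLib.euler_add_of_isCoh (k := k) (S := CurvLib.idealSeq i.ker) (CurvLib.idealSeq_shortExact i.ker)
        (CurvLib.isCoh_of_isInvertible hI) (DevissLib.isCoh_structureModule S) hQ
    haveI : Coh.IsQCoh (Coh.structureModule C) := (CurvLib.isCoh_of_isInvertible CurvLib.isInvertible_structureModule).1
    rw [CurvLib.euler_congr (k := k) eq, ← (PushLinLib.euler_push k i hi _).2, hO2] at h
    linarith
  refine ⟨?_, h1⟩
  have hd := deg_restrict k i hi hC hI
  have hRR := SurfNumLib.riemann_roch (k := k) hS ι hι hK hI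
  have hW0 := SurfNumLib.riemann_roch (k := k) hS ι hι hK (CurvLib.isInvertible_structureModule (X := S))
  have hp : ∀ {P : S.Modules}, HodgeIdxLib.pr k P (Coh.structureModule S) = 0 := fun {P} => by
    have h := HodgeIdxLib.euler_tensor (k := k) P (Coh.structureModule S)
    rw [CurvLib.euler_congr (k := k) (HilbPolyLib.unitLeft P)] at h
    show HodgeIdxLib.pr k P (Coh.structureModule S) = 0
    unfold HodgeIdxLib.pr
    linarith
  have hT := HodgeIdxLib.euler_tensor (k := k) (ClSub.idealMod i.ker) (ClSub.idealMod i.ker)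
  rw [hp, hO2] at hRR
  unfold HodgeIdxLib.pr at hRR
  rw [hO2] at hT
  linarith

variable {A : C.Modules} (hA : PicF.IsInvertible A) {e : ℕ}
  (lam : FlatMod.freeMod S e ⟶ (Coh.push i).obj A) [Epi lam]

include hA

/-- The Euler characteristic of `Hom(F, F)`. -/
theorem euler_end : Curv2.euler k S (RefHull.homSh (kernel lam) (kernel lam)) =
      2 * (e : ℤ) * e - 2 * e * Curv2.euler k C A + 2 * Curv2.euler k C (Coh.structureModule C) := by
  haveI := isProper_curve k i hi
  haveI := CurvLib.isNoetherian k (X := C)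
  let F := kernel lam
  let Q := (Coh.push i).obj A
  let E := FlatMod.freeMod S e
  have hI := isInvertible_ideal k hS hC i
  have hO2 := euler_structure k hS hK hq ι hι
  obtain ⟨hd, hχI⟩ := deg_ideal k hS hC i hi hK hq ι hι
  have hFf : FlatMod.IsFinLocFree F := isFinLocFree_kernel_lam k hS hC i hA lam
  have hF := isCoh_kernel_lam k hS hC i hA lam
  have hFr : FlatMod.IsFinLocFreeOfRank e F := by
    have := CurveVBLib.rank_genRank hFf
    rwa [genRank_kernel_lam k hS hC i hA lam] at this
  have hDr := CycTopLib.rank_du hFr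
  have hDc := CurvLib.isCoh_of_locFree hDr
  have hQ : Coh.IsCoh Q := isCoh_push i hA
  have hE : Coh.IsCoh E := ⟨CurvLib.isQCoh_freeMod S e, CurvLib.isFT_freeMod S e⟩
  let T : ShortComplex S.Modules := ShortComplex.mk _ _ (kernel.condition lam)
  have hT : T.ShortExact := PicOneLib.ses_kernel lam
  haveI : Coh.IsQCoh A := (CurvLib.isCoh_of_isInvertible hA).1
  have hpushA : Curv2.euler k S Q = Curv2.euler k C A := ((PushLinLib.euler_push k i hi A).2).symm
  have hfree : Curv2.euler k S E = (e : ℤ) * 2 := by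
    rw [← CurvLib.euler_congr (k := k) (HilbPolyLib.unitLeft E),
      AVIndexLib.euler_tensor_free (DevissLib.isCoh_structureModule S) e, hO2]
  have hχF : Curv2.euler k S F = (e : ℤ) * 2 - Curv2.euler k C A := by
    have h : Curv2.euler k S E = Curv2.euler k S F + Curv2.euler k S Q :=
      CurvLib.euler_add_of_isCoh (k := k) (S := T) hT hF hE hQ
    linarith
  -- the restriction of `F` to the curve
  let pF := (Scheme.Modules.pullback i).obj F
  have hPr : FlatMod.IsFinLocFreeOfRank e pF := SeesawLib.isFinLocFreeOfRank_pullback i hFr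
  have hFI : Curv2.euler k S (CohB1.tensorMod (ClSub.idealMod i.ker) F) =
      (e : ℤ) * Curv2.euler k S (ClSub.idealMod i.ker) - (Curv2.euler k C A +
        Curv2.deg k C ((Scheme.Modules.pullback i).obj (ClSub.idealMod i.ker)) 1) := by
    have h : Curv2.euler k S (CohB1.tensorMod (ClSub.idealMod i.ker) E) =
        Curv2.euler k S (CohB1.tensorMod (ClSub.idealMod i.ker) F) +
          Curv2.euler k S (CohB1.tensorMod (ClSub.idealMod i.ker) Q) :=
      CurvLib.euler_add_of_isCoh (k := k) (S := T.map (CurvLib.tensorLeft' (ClSub.idealMod i.ker)))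
        (HilbPolyLib.shortExact_tensor hI hT) (HilbPolyLib.isCoh_tensor hI hF) (HilbPolyLib.isCoh_tensor hI hE)
        (HilbPolyLib.isCoh_tensor hI hQ)
    rw [AVIndexLib.euler_tensor_free (CurvLib.isCoh_of_isInvertible hI) e,
      CurvLib.euler_congr (k := k) (HilbPolyLib.swapIso (ClSub.idealMod i.ker) Q),
      euler_push_tensor k i hi hC hA hI] at h
    linarith
  have hdF : Curv2.deg k C pF e = Curv2.deg k C ((Scheme.Modules.pullback i).obj (ClSub.idealMod i.ker)) 1 := by
    obtain ⟨eq⟩ := SurfNumLib.quotMod_ker_iso i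
    have h : Curv2.euler k S (CohB1.tensorMod F (Coh.structureModule S)) =
        Curv2.euler k S (CohB1.tensorMod F (ClSub.idealMod i.ker)) +
          Curv2.euler k S (CohB1.tensorMod F (ClSub.quotMod i.ker)) :=
      CurvLib.euler_add_of_isCoh (k := k) (S := (CurvLib.idealSeq i.ker).map (CurvLib.tensorLeft' F))
        (CurvLib.shortExact_tensor_locFree hFr (CurvLib.idealSeq_shortExact i.ker))
        (QCohLib.isCoh_of_iso (HilbPolyLib.swapIso _ _) (HilbPolyLib.isCoh_tensor hI hF))
        (QCohLib.isCoh_of_iso (HilbPolyLib.swapIso F (Coh.structureModule S) ≪≫ HilbPolyLib.unitLeft F).symm hF)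
        (QCohLib.isCoh_of_iso
          ((@asIso _ _ _ _ (ProjFormLib.projApp i F (Coh.structureModule C))
            (ProjFormLib.isIso_projApp i hFf _)).symm ≪≫ HilbPolyLib.congrRight F eq.symm)
          (VBResLib.isCoh_push_of_isClosedImmersion i (QCohLib.isCoh_of_iso
            (HilbPolyLib.swapIso _ _ ≪≫ HilbPolyLib.unitLeft pF).symm (CurvLib.isCoh_of_locFree hPr))))
    rw [CurvLib.euler_congr (k := k) (HilbPolyLib.swapIso F (Coh.structureModule S) ≪≫ HilbPolyLib.unitLeft F),
      CurvLib.euler_congr (k := k) (HilbPolyLib.swapIso F (ClSub.idealMod i.ker)),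
      CurvLib.euler_congr (k := k) (show CohB1.tensorMod F (ClSub.quotMod i.ker) ≅
          (Coh.push i).obj (CohB1.tensorMod pF (Coh.structureModule C)) from HilbPolyLib.congrRight F eq ≪≫
        @asIso _ _ _ _ (ProjFormLib.projApp i F (Coh.structureModule C)) (ProjFormLib.isIso_projApp i hFf _))] at h
    haveI : Coh.IsQCoh (CohB1.tensorMod pF (Coh.structureModule C)) := (QCohLib.isCoh_of_iso
      (HilbPolyLib.swapIso _ _ ≪≫ HilbPolyLib.unitLeft pF).symm (CurvLib.isCoh_of_locFree hPr)).1
    rw [← (PushLinLib.euler_push k i hi _).2,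
      CurvLib.euler_congr (k := k) (HilbPolyLib.swapIso _ _ ≪≫ HilbPolyLib.unitLeft pF)] at h
    rw [hχF, hFI, hχI] at h
    rw [CurveVBLib.deg_eq]
    linarith
  -- the curve is projective
  have hι' : (i ≫ ι) ≫ CohB1.ProjSpace.toSpec r k = C ↘ Spec (CommRingCat.of k) := by
    rw [Category.assoc, hι, hi]
  obtain ⟨ed⟩ := CycTopLib.nonempty_pb_du i hFf
  let pD := (Scheme.Modules.pullback i).obj (ChernOpLib.du F)
  have hdD : Curv2.deg k C pD e = -Curv2.deg k C pF e := by
    rw [← deg_du_curve k (i ≫ ι) hι' hC hPr, CurveVBLib.deg_eq, CurveVBLib.deg_eq]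
    exact congrArg (· - _) (CurvLib.euler_congr (k := k) ed).symm
  have hDA : Curv2.euler k S (CohB1.tensorMod (ChernOpLib.du F) Q) =
      Curv2.deg k C pD e + e * Curv2.euler k C A := by
    have hf := CurvLib.eulerTensorFormula_of_isCoh (k := k) hC (SeesawLib.isFinLocFreeOfRank_pullback i hDr) A
      (CurvLib.isCoh_of_isInvertible hA)
    haveI : Coh.IsQCoh (CohB1.tensorMod pD A) := (HilbPolyLib.isCoh_tensor hA
      (CurvLib.isCoh_of_locFree (SeesawLib.isFinLocFreeOfRank_pullback i hDr)) |>
      QCohLib.isCoh_of_iso (HilbPolyLib.swapIso _ _)).1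
    rw [CurvLib.euler_congr (k := k) (show CohB1.tensorMod (ChernOpLib.du F) Q ≅
          (Coh.push i).obj (CohB1.tensorMod pD A) from @asIso _ _ _ _ (ProjFormLib.projApp i (ChernOpLib.du F) A)
        (ProjFormLib.isIso_projApp i (CurveVBLib.isFinLocFree_of_rank hDr) A)),
      ← (PushLinLib.euler_push k i hi _).2]
    rw [show Curv2.euler k C (CohB1.tensorMod pD A) = _ from hf.2,
      CurveVBLib.genRank_eq (CurvLib.locFree_of_isInvertible hA)]
    push_cast
    ring
  -- assemble
  obtain ⟨eh⟩ := exists_homMod_iso_tensor hFf F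
  have hs := CurvLib.shortExact_tensor_locFree hDr hT
  have hc3 : Coh.IsCoh (CohB1.tensorMod (ChernOpLib.du F) Q) :=
    QCohLib.isCoh_of_iso (@asIso _ _ _ _ (ProjFormLib.projApp i (ChernOpLib.du F) A)
      (ProjFormLib.isIso_projApp i (CurveVBLib.isFinLocFree_of_rank hDr) A)).symm
      (VBResLib.isCoh_push_of_isClosedImmersion i (QCohLib.isCoh_of_iso (HilbPolyLib.swapIso _ _)
        (HilbPolyLib.isCoh_tensor hA (CurvLib.isCoh_of_locFree (SeesawLib.isFinLocFreeOfRank_pullback i hDr)))))
  have hc2 : Coh.IsCoh (CohB1.tensorMod (ChernOpLib.du F) E) := IntMultLib.isCoh_tensor_freeMod _ hDc e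
  have h : Curv2.euler k S (CohB1.tensorMod (ChernOpLib.du F) E) =
      Curv2.euler k S (CohB1.tensorMod (ChernOpLib.du F) F) + Curv2.euler k S (CohB1.tensorMod (ChernOpLib.du F) Q) :=
    CurvLib.euler_add_of_isCoh (k := k) (S := T.map (CurvLib.tensorLeft' (ChernOpLib.du F))) hs
      (QCohLib.isCoh_of_iso eh (HomCohLib.isCoh_homMod hF hF)) hc2 hc3
  rw [AVIndexLib.euler_tensor_free hDc e, euler_du_surface k ι hι hS hK hFf, hχF, hDA, hdD, hdF, hd] at h
  rw [CurvLib.euler_congr (k := k) (homShIso F F ≪≫ eh)]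
  linarith

end LMLib

end
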