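import Groth.Agent.LMLib.Euler
import Groth.Agent.QCohLib.SerreCrit

/-!
# The globally generated part of a line bundle on a curve
-/

set_option autoImplicit false
set_option linter.style.haveILetI false
set_option linter.unusedSectionVars false
set_option backward.isDefEq.respectTransparency false
set_option backward.isDefEq.respectTransparency.types false
set_option maxHeartbeats 800000
universe u

open CategoryTheory CategoryTheory.Limits AlgebraicGeometry TopologicalSpace

noncomputable section

namespace LMLib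

variable (k : Type u) [Field k] {C : Scheme.{u}} [C.Over (Spec (CommRingCat.of k))] [IsIntegral C]
  [IsProper (C ↘ Spec (CommRingCat.of k))] [Smooth (C ↘ Spec (CommRingCat.of k))] (hC : topologicalKrullDim C = 1)

include k hC

/-- A line bundle with sections contains the line bundle generated by them. -/
theorem exists_generated_sub {A : C.Modules} (hA : PicF.IsInvertible A) {e : ℕ}
    (he : Module.finrank k (Coh.HH C A 0) = e) (he0 : 0 < e) :
    ∃ (A' : C.Modules) (q : FlatMod.freeMod C e ⟶ A'), Epi q ∧ PicF.IsInvertible A' ∧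
      Module.finrank k (Coh.HH C A' 0) = e ∧ Module.finrank k (Coh.HH C A 1) ≤ Module.finrank k (Coh.HH C A' 1) := by
  haveI := CurvLib.isNoetherian k (X := C)
  have hAc := CurvLib.isCoh_of_isInvertible hA
  haveI := CurvLib.finite_HH (k := k) hAc 0
  let b := Module.finBasisOfFinrankEq k (Coh.HH C A 0) he
  let p : FlatMod.freeMod C e ⟶ A := Sigma.desc fun j => (GenusOneSSLib.homEquiv (k := k) A).symm (b j)
  have hFc : Coh.IsCoh (FlatMod.freeMod C e) := ⟨CurvLib.isQCoh_freeMod C e, CurvLib.isFT_freeMod C e⟩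
  let A' := Abelian.image p
  let j := Abelian.image.ι p
  have hc := DevissLib.isCoh_image p hFc hAc
  haveI := CurvLib.finite_HH (k := k) hc 0
  haveI := CurvLib.finite_HH (k := k) hc 1
  let T : ShortComplex C.Modules := ShortComplex.mk j (cokernel.π j) (cokernel.condition j)
  have hT : T.ShortExact := PicOneLib.ses_coker j
  have hTc : Coh.IsCoh (cokernel j) := QCohLib.isCoh_cokernel j hc.1 hAc
  have hbij : Function.Bijective (CurvLib.hMap (k := k) j 0) := by
    refine ⟨CurvLib.injective₀ (S := T) hT, fun x => ?_⟩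
    suffices h : LinearMap.range (CurvLib.hMap (k := k) j 0) = ⊤ from LinearMap.range_eq_top.1 h x
    refine eq_top_iff.2 (b.span_eq ▸ Submodule.span_le.2 ?_)
    rintro _ ⟨i, rfl⟩
    let t : Coh.structureModule C ⟶ A' :=
      Sigma.ι (fun _ : Fin e => Coh.structureModule C) i ≫ Abelian.factorThruImage p
    refine ⟨GenusOneSSLib.homEquiv (k := k) A' t, ?_⟩
    refine (CurvLib.hMap_comp (k := k) t j 0 (GenusOneSSLib.one C)).symm.trans ?_
    show GenusOneSSLib.homEquiv (k := k) A (t ≫ j) = b i
    rw [show t ≫ j = (GenusOneSSLib.homEquiv (k := k) A).symm (b i) by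
      simp only [t, j, p, Category.assoc, Abelian.image.fac, Sigma.ι_desc]]
    exact LinearEquiv.apply_symm_apply _ _
  have h0 : Module.finrank k (Coh.HH C A' 0) = e := (LinearEquiv.ofBijective _ hbij).finrank_eq.trans he
  have hA1 := CurvLib.locFree_of_isInvertible hA
  have hA0 : ¬ IsZero A' := fun hz => by
    haveI : Subsingleton (Coh.structureModule C ⟶ A') := ⟨fun a b => hz.eq_of_tgt a b⟩
    rw [← GenusOneSSLib.finrank_hom, Module.finrank_zero_of_subsingleton] at h0
    omega
  have hr : CurvLib.genRank A' = 1 := by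
    have h1 : 1 = CurvLib.genRank A' + CurvLib.genRank (cokernel j) :=
      (CurveVBLib.genRank_eq hA1).symm.trans (CurveVBLib.genRank_mono j hc hAc)
    have h2 : CurvLib.genRank A' ≠ 0 := fun h => hA0 (CurveVBLib.isZero_of_genRank_zero hA1 j
      (h ▸ CurveVBLib.locFree_of_mono k hC.le hA1 j hc))
    omega
  have hA' : PicF.IsInvertible A' := by
    refine (CohCmpLib.invertible_iff_rank_one _).2 ?_
    have h := CurveVBLib.locFree_of_mono k hC.le hA1 j hc
    rwa [hr] at h
  have hT0 : CurvLib.genRank (cokernel j) = 0 := by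
    have h1 := CurveVBLib.genRank_mono j hc hAc
    rw [CurveVBLib.genRank_eq hA1, hr] at h1
    omega
  have hTd : topologicalKrullDim (CohB1.support (cokernel j)) ≤ 0 :=
    CurvLib.topologicalKrullDim_le_zero_of_lt hC (QCohLib.isClosed_support (cokernel j) hTc.2) fun h => by
      have hη : genericPoint C ∈ CohB1.support (cokernel j) := h ▸ Set.mem_univ (genericPoint C)
      exact hη (PicOneLib.subsingleton_of_genRank hTc hT0)
  haveI : Subsingleton (Coh.HH C (cokernel j) 1) :=
    CurvLib.subsingleton_HH_of_support_dim (cokernel j) hTc.2 (d := 0) hTd 1 one_pos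
  have hsurj : Function.Surjective (CurvLib.hMap (k := k) j 1) := by
    rw [← LinearMap.range_eq_top]
    refine (CurvLib.exact₂ (k := k) (S := T) hT 1).trans (LinearMap.ker_eq_top.2 ?_)
    exact LinearMap.ext fun x => @Subsingleton.elim (Coh.HH C (cokernel j) 1) _ _ _
  exact ⟨A', Abelian.factorThruImage p, inferInstance, hA', h0,
    LinearMap.finrank_le_finrank_of_surjective hsurj⟩

end LMLib

namespace LMLib

/-- Direct images along closed immersions preserve epimorphisms of coherent modules. -/
theorem epi_push {C S : Scheme.{u}} (i : C ⟶ S) [IsClosedImmersion i] [IsLocallyNoetherian C] {M N : C.Modules}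
    (φ : M ⟶ N) [Epi φ] (hM : Coh.IsCoh M) (hN : Coh.IsCoh N) : Epi ((Coh.push i).map φ) := by
  haveI : Coh.IsQCoh (kernel φ) := (QCohLib.isCoh_kernel φ hM hN.1).1
  refine QCohLib.epi_of_surjective_on_affines _ fun V s p hp => ?_
  obtain ⟨V', hV', hp', hle⟩ := Opens.isBasis_iff_nbhd.mp S.isBasis_affineOpens hp
  haveI : Coh.IsQCoh (ShortComplex.mk (kernel.ι φ) φ (kernel.condition φ)).X₁ := ‹_›
  obtain ⟨t, ht⟩ := QCohLib.app_surjective_of_affine (S := ShortComplex.mk (kernel.ι φ) φ (kernel.condition φ))
    { exact := ShortComplex.exact_of_f_is_kernel _ (kernelIsKernel φ)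
      mono_f := inferInstanceAs (Mono (kernel.ι φ))
      epi_g := inferInstanceAs (Epi φ) } (U := i ⁻¹ᵁ V') (IsAffineOpen.preimage hV' i)
    (((Coh.push i).obj N).presheaf.map (homOfLE hle).op s)
  exact ⟨V', hle, hp', t, ht⟩

variable (k : Type u) [Field k] [IsAlgClosed k] {S : Scheme.{u}} [S.Over (Spec (CommRingCat.of k))] [IsIntegral S]
  [IsProper (S ↘ Spec (CommRingCat.of k))]
  {C : Scheme.{u}} [C.Over (Spec (CommRingCat.of k))] [IsIntegral C] (i : C ⟶ S) [IsClosedImmersion i]
  (hi : i ≫ (S ↘ Spec (CommRingCat.of k)) = C ↘ Spec (CommRingCat.of k))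

include hi

/-- A globally generated line bundle on the curve gives an evaluation map with bijective sections. -/
theorem exists_lam {A' : C.Modules} (hA' : Coh.IsCoh A') {e : ℕ} (q : FlatMod.freeMod C e ⟶ A') [Epi q]
    (h0 : Module.finrank k (Coh.HH C A' 0) = e) :
    ∃ lam : FlatMod.freeMod S e ⟶ (Coh.push i).obj A', Epi lam ∧
      Function.Bijective (Sheaf.H.map ((SheafOfModules.toSheaf _).map lam) 0) := by
  haveI := isProper_curve k i hi
  haveI := CurvLib.isNoetherian k (X := C)
  haveI := CurvLib.isNoetherian k (X := S)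
  haveI := hA'.1
  let M := (Coh.push i).obj A'
  have hMc : Coh.IsCoh M := VBResLib.isCoh_push_of_isClosedImmersion i hA'
  haveI := CurvLib.finite_HH (k := k) hMc 0
  have hM0 : Module.finrank k (Coh.HH S M 0) = e := ((PushLinLib.euler_push k i hi A').1 0).symm.trans h0
  let b := Module.finBasisOfFinrankEq k (Coh.HH S M 0) hM0
  let lam : FlatMod.freeMod S e ⟶ M := Sigma.desc fun j => (GenusOneSSLib.homEquiv (k := k) M).symm (b j)
  have hsurj : Function.Surjective (CurvLib.hMap (k := k) lam 0) := fun x => by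
    suffices h : LinearMap.range (CurvLib.hMap (k := k) lam 0) = ⊤ from LinearMap.range_eq_top.1 h x
    refine eq_top_iff.2 (b.span_eq ▸ Submodule.span_le.2 ?_)
    rintro _ ⟨j, rfl⟩
    refine ⟨GenusOneSSLib.homEquiv (k := k) _ (GenusOneSSLib.inj S j), ?_⟩
    refine (CurvLib.hMap_comp (k := k) (GenusOneSSLib.inj S j) lam 0 (GenusOneSSLib.one S)).symm.trans ?_
    show GenusOneSSLib.homEquiv (k := k) M (GenusOneSSLib.inj S j ≫ lam) = b j
    rw [show GenusOneSSLib.inj S j ≫ lam = (GenusOneSSLib.homEquiv (k := k) M).symm (b j) from Sigma.ι_desc _ _]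
    exact LinearEquiv.apply_symm_apply _ _
  obtain ⟨hfin, hfree⟩ := AVIndexLib.finrank_HH_free (k := k) (X := S) 0 e
  haveI := hfin
  rw [RRVanLib.finrank_h0_structure, mul_one] at hfree
  have hbij : Function.Bijective (CurvLib.hMap (k := k) lam 0) :=
    ⟨(LinearMap.injective_iff_surjective_of_finrank_eq_finrank (hfree.trans hM0.symm)).2 hsurj, hsurj⟩
  refine ⟨lam, ?_, hbij⟩
  -- every section lifts, hence `push q` factors through `lam`
  refine Abelian.epi_of_cokernel_π_eq_zero lam ?_
  have hτ : ∀ τ : Coh.structureModule S ⟶ M, τ ≫ cokernel.π lam = 0 := fun τ => by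
    obtain ⟨y, hy⟩ := hsurj (GenusOneSSLib.homEquiv (k := k) M τ)
    obtain ⟨v, rfl⟩ := (GenusOneSSLib.homEquiv (k := k) (FlatMod.freeMod S e)).surjective y
    have h : v ≫ lam = τ := (GenusOneSSLib.homEquiv (k := k) M).injective
      ((CurvLib.hMap_comp (k := k) v lam 0 (GenusOneSSLib.one S)).trans hy)
    rw [← h, Category.assoc, cokernel.condition, Limits.comp_zero]
  obtain ⟨eq⟩ := SurfNumLib.quotMod_ker_iso i
  haveI : Epi (ClSub.toSubscheme i.ker) := CurvLib.epi_toSubscheme i.ker
  have hj : ∀ j : Fin e, (Coh.push i).map (GenusOneSSLib.inj C j ≫ q) ≫ cokernel.π lam = 0 := fun j => by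
    rw [← cancel_epi (ClSub.toSubscheme i.ker ≫ eq.hom), Limits.comp_zero, ← Category.assoc]
    exact hτ _
  have hFc : Coh.IsCoh (FlatMod.freeMod C e) := ⟨CurvLib.isQCoh_freeMod C e, CurvLib.isFT_freeMod C e⟩
  haveI := epi_push i q hFc hA'
  rw [← cancel_epi ((Coh.push i).map q), Limits.comp_zero,
    show q = ∑ j, GenusOneSSLib.proj C j ≫ (GenusOneSSLib.inj C j ≫ q) by
      simp only [← Category.assoc, ← Preadditive.sum_comp, GenusOneSSLib.proj_inj_sum, Category.id_comp],
    Functor.map_sum, Preadditive.sum_comp]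
  exact Finset.sum_eq_zero fun j _ => by
    rw [Functor.map_comp, Category.assoc, hj j, Limits.comp_zero]

end LMLib

end
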