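import Groth.Agent.LMLib.Setup
import Groth.Agent.PicOneLib.K3
import Groth.Agent.SurfNumLib.RRApps

/-!
# Lazarsfeld–Mukai bundles on a K3 surface of Picard rank one
-/

set_option autoImplicit false
set_option linter.style.haveILetI false
set_option linter.unusedSectionVars false
set_option backward.isDefEq.respectTransparency false
set_option backward.isDefEq.respectTransparency.types false
set_option maxHeartbeats 800000
universe u

open CategoryTheory CategoryTheory.Limits AlgebraicGeometry
open StabLib (HPoly)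
open PicOneLib (c1 c2)

noncomputable section

namespace LMLib

variable (k : Type u) [Field k] [IsAlgClosed k] {S : Scheme.{u}} [S.Over (Spec (CommRingCat.of k))] [IsIntegral S]
  [IsNoetherian S] [IsProper (S ↘ Spec (CommRingCat.of k))]
  [SmoothOfRelativeDimension 2 (S ↘ Spec (CommRingCat.of k))] (hS : topologicalKrullDim S = 2)
  {C : Scheme.{u}} [C.Over (Spec (CommRingCat.of k))] [IsIntegral C] (hC : topologicalKrullDim C = 1)
  (i : C ⟶ S) [IsClosedImmersion i] (hi : i ≫ (S ↘ Spec (CommRingCat.of k)) = C ↘ Spec (CommRingCat.of k))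
  {A : C.Modules} (hA : PicF.IsInvertible A) {e : ℕ} (lam : FlatMod.freeMod S e ⟶ (Coh.push i).obj A) [Epi lam]
  [PicGrp.Law S] (hI : PicF.IsInvertible (ClSub.idealMod i.ker))
  (hK : Canon.IsTopDiff (S ↘ Spec (CommRingCat.of k)) 2 (Coh.structureModule S))
  {L : S.Modules} (hL : CohB1.IsAmple L)
  (hIc : PicGrp.cls (ClSub.idealMod i.ker) hI = PicGrp.cls L hL.1 ^ (-1 : ℤ))
  (hgen : ∀ c : PicLoc.PicSet S, ∃ n : ℤ, c = PicGrp.cls L hL.1 ^ n)

include hS hK hgen

theorem beta_zero : c1 k L (Coh.structureModule S) = 0 := by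
  obtain ⟨r, ι, hι, hι'⟩ := SurfNumLib.exists_embedding (k := k) hL
  haveI := hι
  exact PicOneLib.beta_eq_zero k hS hL ι hι' hK hgen

include hC hi hA hI hIc lam

theorem c1_lam : c1 k L (kernel lam) = -2 * c2 k L (Coh.structureModule S) := by
  rw [c1_kernel_lam k hS hC i hi hA lam hL hgen hI hIc, beta_zero k hS hK hL hgen]
  ring

theorem sub_le (hlam : Function.Injective (Sheaf.H.map ((SheafOfModules.toSheaf _).map lam) 0))
    {J : S.Modules} (hJ : Coh.IsCoh J) (hJ0 : ¬ IsZero J) (j : J ⟶ kernel lam) [Mono j] :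
    c1 k L J ≤ -2 * c2 k L (Coh.structureModule S) := by
  refine (c1_sub_le k hS hC i hA lam hL hgen hlam hJ hJ0 j).trans ?_
  rw [beta_zero k hS hK hL hgen]
  linarith

theorem rank_pos : 0 < e := by
  by_contra h
  have hα := PicOneLib.alpha_pos' k hS hL
  have hF := isCoh_kernel_lam k hS hC i hA lam
  have hz : IsZero (kernel lam) := PicOneLib.isZero_of_rank_zero k hS hL hF
    (PicOneLib.torsionFree_of_isFinLocFree (isFinLocFree_kernel_lam k hS hC i hA lam))
    (by rw [genRank_kernel_lam k hS hC i hA lam]; omega)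
  have h0 : c1 k L (kernel lam) = 0 := by
    show (HPoly k L (kernel lam)).coeff 1 = 0
    rw [StabLib.hPoly_zero hL hz, Polynomial.coeff_zero]
  linarith [c1_lam k hS hC i hi hA lam hI hK hL hIc hgen]

end LMLib

end
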