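import Groth.Agent.PicOneLib.Sat

/-!
# A criterion for slope stability on a surface
-/

set_option autoImplicit false
set_option linter.style.haveILetI false
set_option linter.unusedSectionVars false
set_option backward.isDefEq.respectTransparency false
set_option backward.isDefEq.respectTransparency.types false
universe u

open CategoryTheory CategoryTheory.Limits AlgebraicGeometry
open StabLib (HPoly)
open PicOneLib (c1 c2)

noncomputable section

namespace LMLib

variable (k : Type u) [Field k] {S : Scheme.{u}} [S.Over (Spec (CommRingCat.of k))] [IsIntegral S]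
  [IsNoetherian S] [IsProper (S ↘ Spec (CommRingCat.of k))]
  [SmoothOfRelativeDimension 2 (S ↘ Spec (CommRingCat.of k))] (hS : topologicalKrullDim S = 2)
  {L : S.Modules} (hA : CohB1.IsAmple L)

include hS hA

theorem isMuStable_of_bound {V : S.Modules} (hV : Coh.IsCoh V) (htf : TorSh.IsTorsionFree V) {r : ℕ} (hr0 : 0 < r)
    (hr : CurvLib.genRank V = r)
    (h : ∀ (F : S.Modules) (i : F ⟶ V), Mono i → Coh.IsCoh F → 0 < CurvLib.genRank F → CurvLib.genRank F < r →
      (r : ℚ) * c1 k L F < (CurvLib.genRank F : ℚ) * c1 k L V) :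
    ShStab.IsMuStable k S L V 2 := by
  have hα := PicOneLib.alpha_pos' k hS hA
  have hr' : (0 : ℚ) < r := by exact_mod_cast hr0
  have hV0 : ¬ IsZero V := fun h => by
    rw [CurveVBLib.genRank_of_isZero h] at hr
    omega
  have e2 : ∀ {F : S.Modules}, Coh.IsCoh F → StabCat.alpha 2 (HPoly k L F) =
      2 * ((CurvLib.genRank F : ℚ) * c2 k L (Coh.structureModule S)) := fun hF => by
    simp only [StabCat.alpha, Nat.factorial_two, Nat.cast_ofNat]
    exact congrArg (2 * ·) (PicOneLib.c2_eq k hS hA hF)
  refine ⟨hV, hV0, ?_, fun F i hi hF hd => ?_, fun F i hi hF pF pE hpF hpE h0 h1 => ?_⟩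
  · refine (StabLib.hPoly_alpha_pos_iff (k := k) (d := 2) hA hV (PicOneLib.dim_le k hS hA V)).1 ?_
    rw [e2 hV, hr]
    positivity
  · haveI := hi
    by_cases hz : IsZero F
    · rw [DevissLib.support_of_isZero hz] at hd
      haveI : IsEmpty (TopologicalSpace.IrreducibleCloseds (∅ : Set S)) :=
        ⟨fun Z => Z.isIrreducible.nonempty.elim fun x _ => x.2⟩
      simp [topologicalKrullDim, Order.krullDim_eq_bot] at hd
    · obtain ⟨d, hd'⟩ := StabLib.exists_dim_eq k hz
      rw [hd'] at hd
      have hd1 : d + 1 = 2 := by exact_mod_cast hd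
      obtain rfl : d = 1 := by omega
      have hc : c2 k L F = 0 :=
        Polynomial.coeff_eq_zero_of_natDegree_lt (lt_of_le_of_lt (StabLib.hPoly_deg hA hF hd'.le) one_lt_two)
      rw [PicOneLib.c2_eq k hS hA hF] at hc
      exact hz (PicOneLib.isZero_of_rank_zero k hS hA hF (PicOneLib.torsionFree_of_mono i htf)
        (by exact_mod_cast (mul_eq_zero.1 hc).resolve_right hα.ne'))
  · haveI := hi
    rw [← StabLib.hPoly_eq hA hF hpF] at h0 h1 ⊢
    rw [← StabLib.hPoly_eq hA hV hpE] at h1 ⊢
    rw [e2 hF] at h0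
    rw [e2 hF, e2 hV, hr] at h1
    have g0 : (0 : ℚ) < CurvLib.genRank F := by nlinarith
    have g1 : (CurvLib.genRank F : ℚ) < r := by nlinarith
    have hs := h F i hi hF (by exact_mod_cast g0) (by exact_mod_cast g1)
    simp only [StabCat.hatSlope, e2 hF, e2 hV, hr]
    simp only [StabCat.alpha, show 2 - 1 = 1 from rfl, Nat.factorial_one, Nat.cast_one, one_mul]
    change c1 k L F / _ < c1 k L V / _
    rw [div_lt_div_iff₀ (by positivity) (by positivity)]
    nlinarith

end LMLib

end
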